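import Cfsg.Agent.Lib.CosetEnum.Y5Chain1.DefsPart0
import Cfsg.Agent.Lib.CosetEnum.Y5Chain1.StepsPart0
import Cfsg.Agent.Lib.CosetEnum.Y5Chain1.StepsPart1
import Cfsg.Agent.Lib.CosetEnum.Y5Chain1.StepsPart2
import Cfsg.Agent.Lib.CosetEnum.Y5Chain1.StepsPart3
import Cfsg.Agent.Lib.CosetEnum.Y5Chain1.StepsPart4
import Cfsg.Agent.Lib.CosetEnum.Y5Chain1.ClosedPart0

/-! Generated certificate. -/

set_option autoImplicit false
set_option maxRecDepth 20000

namespace Cfsg.Lib.CosetEnum.Y5Chain1

theorem step_valid {R0 : List (List Nat)} (h : shiftsOK R0 relWords = true) : step.Valid R0 where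
  pos := by decide +kernel
  shifts := h
  defs := (defsOK_append (a := 4000) (b := 1461) defs_0 defs_1)
  steps := (stepsOK_append (m := 6000) (n := 7413) (stepsOK_append (m := 3000) (n := 3000) (stepsOK_append (m := 1500) (n := 1500) steps_0 steps_1) (stepsOK_append (m := 1500) (n := 1500) steps_2 steps_3)) (stepsOK_append (m := 3000) (n := 4413) (stepsOK_append (m := 1500) (n := 1500) steps_4 steps_5) (stepsOK_append (m := 1500) (n := 2913) steps_6 (stepsOK_append (m := 1500) (n := 1413) steps_7 steps_8))))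
  closed := closed_0

end Cfsg.Lib.CosetEnum.Y5Chain1
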